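import Mathlib
import Cfsg.Agent.SmallSimple.TheoremCCor
import Cfsg.Agent.Prune
set_option linter.all false
prune_inst 0x7f00000000000000000000000000000000000000000000000000000000000000000000000000000000000000000000000000000000000000000000000000000000000000000000000000000000000000003fffffffffffffffffffffffffffbeffbdffffffff
open scoped Cfsg.Agent.FastGrp

/-!
# Values at the `p`-singular elements, inertial index `p - 1` (helper676, S4910)

`|P| = p`, `C(P) = P × K`, `|N(P) : C(P)| = p - 1` and `N(P)` acts on `K` by inner automorphisms (`Inn`).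

* `val` : every irreducible `χ` vanishes on the `p`-singular elements, or `χ (x y) = δ φ(y)` for `x ∈ P \ 1`, `y ∈ K`,
  with `δ = ±1`, `φ ∈ Irr K`; then `χ 1 ≡ δ φ(1) mod p`.
* `res` : the residue of `χ 1` modulo `p` for any inertial index `e`: `0`, `± φ(1)` or `± e φ(1)`;
* `isComp_of` : `K` from a list of properties of a subgroup.
-/

set_option autoImplicit false
set_option linter.unusedSectionVars false

open Cfsg

namespace Cfsg.Agent.H676.Deg

open Subgroup
open Cfsg.Agent.Characters.Core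
open Cfsg.Agent.SmallSimple.ThetaSetup Cfsg.Agent.SmallSimple.ThetaOrtho
open Cfsg.Agent.SmallSimple.TheoremC Cfsg.Agent.SmallSimple.TheoremCCor

universe u

variable {G : Type u} [Group G] [Finite G] {p : ℕ} [Fact p.Prime] {P : Sylow p G} {K : Subgroup G}

/-- The normalizer of `P` acts on `K` by inner automorphisms of `K`. -/
def Inn (P : Sylow p G) (K : Subgroup G) : Prop :=
  ∀ n ∈ normalizer ((P : Subgroup G) : Set G), ∃ k₀ ∈ K, ∀ k ∈ K, n * k * n⁻¹ = k₀ * k * k₀⁻¹

theorem tw_eq_of_inn (hK : IsComp p (P : Subgroup G) K) (hI : Inn P K) {θ : K → ℂ} (hθ : IsIrrCharacter K θ) :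
    ∀ n ∈ normalizer ((P : Subgroup G) : Set G), tw θ n = θ := by
  intro n hn
  obtain ⟨k₀, hk₀, h⟩ := hI n hn
  funext y
  rw [tw_apply hK θ hn, ← isIrr_isClassFunction hθ y ⟨k₀, hk₀⟩]
  congr 1
  apply Subtype.ext
  show n * (y : G) * n⁻¹ = k₀ * y * k₀⁻¹
  exact h y y.2

/-- **Values, inertial index `p - 1`.** -/
theorem val (hK : IsComp p (P : Subgroup G) K) (hP : Nat.card P = p)
    (he : (centralizer ((P : Subgroup G) : Set G)).relIndex (normalizer ((P : Subgroup G) : Set G)) = p - 1)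
    (hI : Inn P K) (χ : IrrCharacter G) :
    ((∀ g : G, p ∣ orderOf g → (χ : G → ℂ) g = 0) ∧ ∃ k : ℕ, (χ : G → ℂ) 1 = p * k) ∨
    ∃ (φ : IrrCharacter K) (δ : ℤ), (δ = 1 ∨ δ = -1) ∧
      (∀ x : P, x ≠ 1 → ∀ y : K, (χ : G → ℂ) (x * y) = δ * (φ : K → ℂ) y) ∧
      ∃ k : ℤ, (χ : G → ℂ) 1 = δ * (φ : K → ℂ) 1 + p * k := by
  classical
  by_cases hex : ∃ θ : IrrCharacter K, χ ∈ Over P (θ : K → ℂ)
  · right
    obtain ⟨θ, hθ⟩ := hex
    have hst := tw_eq_of_inn hK hI θ.2
    have he' : Nat.card (stabAct hK (θ : K → ℂ)) = p - 1 := by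
      rw [card_stabAct_of_stable hK hP θ.2 hst, he]
    obtain ⟨B, δ, -, hB, hδ, -⟩ := theoremC_one hK hP θ.2 he'
    obtain ⟨h1, h2⟩ := hδ χ ((hB χ).1 hθ)
    refine ⟨θ, δ χ, h1, ?_, ?_⟩
    · intro x hx y
      rw [apply_of_stable hK hP θ.2 hst hθ hx, h2 x hx]
    · obtain ⟨k, hk⟩ := degree_of_const hK hP θ.2 hθ h2
      rw [orb_of_stable θ.2 hst, Finset.sum_singleton] at hk
      exact ⟨k, hk⟩
  · left
    push Not at hex
    have hz : ∀ g : G, p ∣ orderOf g → (χ : G → ℂ) g = 0 := fun g hg => apply_eq_zero hK hP hex hg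
    refine ⟨hz, ?_⟩
    have : Finite (IrrCharacter K) := finite_irr
    have := Fintype.ofFinite (IrrCharacter K)
    have h1 := degree_eq_sum (K := K) (isIrr_isClassFunction χ.2)
    have h2 : ∀ θ : IrrCharacter K, ∃ k : ℤ, part (θ : K → ℂ) (χ : G → ℂ) 1 = ((0 : ℤ) : ℂ) + p * k := by
      intro θ
      refine part_one_of_const hK hP (isIrr_isCharacter χ.2) θ.2 (c := 0) fun x hx => ?_
      rw [part_eq_zero (hex θ) hx, Int.cast_zero]
    choose k hk using h2
    choose d hd using fun θ : IrrCharacter K => isCharacter_apply_one (isIrr_isCharacter θ.2)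
    obtain ⟨n, hn⟩ := isCharacter_apply_one (isIrr_isCharacter χ.2)
    have h3 : ((n : ℤ) : ℂ) = ((p * ∑ θ : IrrCharacter K, k θ * d θ : ℤ) : ℂ) := by
      rw [Int.cast_natCast, ← hn, h1]
      push_cast
      rw [Finset.mul_sum]
      refine Finset.sum_congr rfl fun θ _ => ?_
      rw [hk, hd]
      push_cast
      ring
    have h4 : (n : ℤ) = p * ∑ θ : IrrCharacter K, k θ * d θ := by exact_mod_cast h3
    have h5 : p ∣ n := by
      rw [← Int.natCast_dvd_natCast, h4]
      exact dvd_mul_right _ _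
    obtain ⟨m, rfl⟩ := h5
    exact ⟨m, by rw [hn]; push_cast; ring⟩

/-- the degree in terms of the multiplicities modulo `p` -/
theorem degree_of_parts (χ : IrrCharacter G) (c : IrrCharacter K → ℤ)
    (h : ∀ θ : IrrCharacter K, ∃ k : ℤ, part (θ : K → ℂ) (χ : G → ℂ) 1 = ((c θ : ℤ) : ℂ) + p * k)
    [Fintype (IrrCharacter K)] :
    ∃ k : ℤ, (χ : G → ℂ) 1 = (∑ θ : IrrCharacter K, (c θ : ℂ) * (θ : K → ℂ) 1) + p * k := by
  choose k hk using h
  choose d hd using fun θ : IrrCharacter K => isCharacter_apply_one (isIrr_isCharacter θ.2)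
  refine ⟨∑ θ : IrrCharacter K, k θ * d θ, ?_⟩
  rw [degree_eq_sum (K := K) (isIrr_isClassFunction χ.2)]
  push_cast
  rw [Finset.mul_sum, ← Finset.sum_add_distrib]
  refine Finset.sum_congr rfl fun θ _ => ?_
  rw [hk, hd]
  ring

/-- **Residues of the degrees, any inertial index** (`N(P)` acting on `K` by inner automorphisms). -/
theorem res (hK : IsComp p (P : Subgroup G) K) (hP : Nat.card P = p) {e t : ℕ}
    (he : (centralizer ((P : Subgroup G) : Set G)).relIndex (normalizer ((P : Subgroup G) : Set G)) = e)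
    (ht : e * t = p - 1) (hI : Inn P K) (χ : IrrCharacter G) :
    (∃ k : ℤ, (χ : G → ℂ) 1 = p * k) ∨
    ∃ (φ : IrrCharacter K) (δ : ℤ), (δ = 1 ∨ δ = -1) ∧ ∃ k : ℤ,
      ((χ : G → ℂ) 1 = δ * (φ : K → ℂ) 1 + p * k ∨ (χ : G → ℂ) 1 = δ * e * (φ : K → ℂ) 1 + p * k) := by
  classical
  have : Finite (IrrCharacter K) := finite_irr
  have := Fintype.ofFinite (IrrCharacter K)
  by_cases hex : ∃ θ : IrrCharacter K, χ ∈ Over P (θ : K → ℂ)
  · right
    obtain ⟨θ, hθ⟩ := hex
    have hst := tw_eq_of_inn hK hI θ.2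
    have he' : Nat.card (stabAct hK (θ : K → ℂ)) = e := by
      rw [card_stabAct_of_stable hK hP θ.2 hst, he]
    obtain ⟨NE, X, ε, d, S, h1, h2, h3, h4, h5, h6, h7, h8, -, -, -⟩ := theoremC hK hP θ.2 he' ht
    rcases (h1 χ).1 hθ with hχ | hχ
    · obtain ⟨k, hk⟩ := degree_of_const hK hP θ.2 hθ (h7 χ hχ)
      rw [orb_of_stable θ.2 hst, Finset.sum_singleton] at hk
      exact ⟨θ, ε χ, h5 χ hχ, k, Or.inl hk⟩
    · obtain ⟨h9, h10, -, h12⟩ := h8 χ hχ
      obtain ⟨k, hk⟩ := degree_of_parts (p := p) χ (fun θ' => if θ' = θ then d * e else 0) (fun θ' => by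
        by_cases hθ' : θ' = θ
        · subst hθ'
          obtain ⟨m, hm⟩ := part_one_of_exc hK hP (isIrr_isCharacter χ.2) θ'.2 h10 h12
          refine ⟨m, ?_⟩
          rw [hm, h9, if_pos rfl]
          push_cast
          ring
        · rw [if_neg hθ']
          refine part_one_of_const hK hP (isIrr_isCharacter χ.2) θ'.2 (c := 0) fun x hx => ?_
          rw [part_eq_zero_of_not_mem_orb hK hP θ.2 hθ (by
            rw [orb_of_stable θ.2 hst, Finset.mem_singleton]
            exact hθ') hx, Int.cast_zero])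
      refine ⟨θ, d, h6, k, Or.inr ?_⟩
      rw [hk]
      congr 1
      rw [Finset.sum_eq_single θ]
      · rw [if_pos rfl]
        push_cast
        ring
      · intro b _ hb
        rw [if_neg hb]
        simp
      · intro h
        exact absurd (Finset.mem_univ _) h
  · left
    push Not at hex
    obtain ⟨k, hk⟩ := degree_of_parts (p := p) (K := K) χ (fun _ => 0) (fun θ => by
      refine part_one_of_const hK hP (isIrr_isCharacter χ.2) θ.2 (c := 0) fun x hx => ?_
      rw [part_eq_zero (hex θ) hx, Int.cast_zero])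
    refine ⟨k, ?_⟩
    rw [hk]
    simp

/-- `K` is the set of the `p`-regular elements of `C(P)`. -/
theorem isComp_of (hP : Nat.card P = p) (h1 : K ≤ centralizer ((P : Subgroup G) : Set G)) (h2 : ¬ p ∣ Nat.card K)
    (h3 : ∀ g ∈ centralizer ((P : Subgroup G) : Set G), ∃ x ∈ (P : Subgroup G), ∃ k ∈ K, g = x * k) :
    IsComp p (P : Subgroup G) K := by
  intro y
  constructor
  · intro hy
    refine ⟨h1 hy, fun h => h2 ?_⟩
    have h4 := orderOf_dvd_natCard (⟨y, hy⟩ : K)
    rw [← Subgroup.orderOf_coe] at h4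
    exact h.trans h4
  · rintro ⟨hy, ho⟩
    obtain ⟨x, hx, k, hk, rfl⟩ := h3 y hy
    suffices hx1 : x = 1 by rw [hx1, one_mul]; exact hk
    by_contra hx1
    apply ho
    -- the order of `x k` is a multiple of `p`
    have hc : Commute x k := mem_centralizer_iff.1 (h1 hk) x hx
    have hox : orderOf x = p := Cfsg.Agent.Blocks.CyclicOrtho.orderOf_eq P hP hx hx1
    have hok : (orderOf x).Coprime (orderOf k) := by
      rw [hox, Nat.Prime.coprime_iff_not_dvd Fact.out]
      intro h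
      apply h2
      have h4 := orderOf_dvd_natCard (⟨k, hk⟩ : K)
      rw [← Subgroup.orderOf_coe] at h4
      exact h.trans h4
    rw [hc.orderOf_mul_eq_mul_orderOf_of_coprime hok, hox]
    exact dvd_mul_right _ _

end Cfsg.Agent.H676.Deg
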